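import Groth.Agent.HomRep.DualConst

/-!
The constant group `ℤ` over a base, as a group object.
-/

set_option autoImplicit false
set_option backward.isDefEq.respectTransparency false
set_option backward.isDefEq.respectTransparency.types false
set_option linter.style.haveILetI false

universe u

open CategoryTheory CategoryTheory.Limits MonoidalCategory CartesianMonoidalCategory MonObj GrpObj AlgebraicGeometry

noncomputable section

namespace Groth.Agent.AlbProperLib

open HomRep

variable (S : Scheme.{u})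

/-- The constant scheme of the integers. -/
abbrev Z : Over S := TwC.const S ℤ

variable {S}

abbrev pt (m : ℤ) : 𝟙_ (Over S) ⟶ Z S := TwC.pt S ℤ m

theorem hom_ext_pt {B : Over S} {f g : Z S ⟶ B} (h : ∀ m, pt m ≫ f = pt m ≫ g) : f = g :=
  Over.OverMorphism.ext (Sigma.hom_ext _ _ fun m => congrArg CommaMorphism.left (h m))

theorem pt_constMap (φ : ℤ → ℤ) (m : ℤ) : pt (S := S) m ≫ TwC.constMap S φ = pt (φ m) :=
  Over.OverMorphism.ext (Sigma.ι_desc _ _)

theorem constMap_id : TwC.constMap S (fun n : ℤ => n) = 𝟙 (Z S) :=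
  hom_ext_pt fun m => by rw [pt_constMap, Category.comp_id]

theorem constMap_comp (φ ψ : ℤ → ℤ) : TwC.constMap S φ ≫ TwC.constMap S ψ = TwC.constMap S (ψ ∘ φ) :=
  hom_ext_pt fun m => by rw [← Category.assoc, pt_constMap, pt_constMap, pt_constMap]; rfl

/-- The piece of index `m`. -/
abbrev piece (T : Over S) (m : ℤ) : T ⟶ Z S ⊗ T := cpt (Iso.refl (Z S)) T m

theorem piece_eq (T : Over S) (m : ℤ) : piece T m = lift (toUnit T ≫ pt m) (𝟙 T) := by
  show lift (toUnit T ≫ pt m ≫ 𝟙 _) (𝟙 T) = _
  rw [Category.comp_id]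

theorem ext_pieces {T G : Over S} {f g : Z S ⊗ T ⟶ G} (h : ∀ m, piece T m ≫ f = piece T m ≫ g) : f = g :=
  hom_ext_pieces (Iso.refl (Z S)) h

/-- Addition. -/
def addHom : Z S ⊗ Z S ⟶ Z S :=
  (exists_hom_of_pieces (Iso.refl (Z S)) (Z S) (Z S) fun m => TwC.constMap S fun n => m + n).choose

theorem piece_addHom (m : ℤ) : piece (Z S) m ≫ addHom = TwC.constMap S fun n => m + n :=
  (exists_hom_of_pieces (Iso.refl (Z S)) (Z S) (Z S) fun m => TwC.constMap S fun n => m + n).choose_spec m

theorem lift_pt_addHom {T : Over S} (m : ℤ) (x : T ⟶ Z S) :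
    lift (toUnit T ≫ pt m) x ≫ addHom = x ≫ TwC.constMap S fun n => m + n := by
  rw [← piece_addHom, ← Category.assoc, piece_eq, comp_lift, comp_toUnit_assoc, Category.comp_id]

instance monObjZ : MonObj (Z S) where
  one := pt 0
  mul := addHom
  one_mul := by
    have e : (pt 0 ▷ Z S) = (λ_ (Z S)).hom ≫ piece (Z S) 0 := by
      rw [piece_eq, comp_lift, comp_toUnit_assoc, Category.comp_id]
      refine CartesianMonoidalCategory.hom_ext _ _ ?_ ?_
      · rw [whiskerRight_fst, lift_fst, toUnit_unique (fst (𝟙_ (Over S)) (Z S)) (toUnit _)]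
      · rw [whiskerRight_snd, lift_snd, leftUnitor_hom]
    rw [e, Category.assoc, piece_addHom, show (fun n : ℤ => (0 : ℤ) + n) = fun n => n from funext Int.zero_add,
      constMap_id, Category.comp_id]
  mul_one := ext_pieces fun m => by
    rw [← Category.assoc, piece_eq, lift_whiskerLeft, Category.id_comp, lift_pt_addHom, pt_constMap,
      rightUnitor_hom, lift_fst, toUnit_unique (toUnit (𝟙_ (Over S))) (𝟙 _), Category.id_comp, Int.add_zero]
  mul_assoc := by
    rw [← cancel_epi (α_ (Z S) (Z S) (Z S)).inv, Iso.inv_hom_id_assoc]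
    refine ext_pieces fun m => ext_pieces fun n => ?_
    have e1 : piece (Z S) n ≫ piece (Z S ⊗ Z S) m ≫ (α_ (Z S) (Z S) (Z S)).inv =
        lift (toUnit (Z S) ≫ lift (pt m) (pt n)) (𝟙 _) := by
      rw [piece_eq, piece_eq]
      refine CartesianMonoidalCategory.hom_ext _ _ ?_ ?_
      · refine CartesianMonoidalCategory.hom_ext _ _ ?_ ?_
        · simp
        · simp
      · simp
    have e2 : lift (pt (S := S) m) (pt n) ≫ addHom = pt (m + n) := by
      have h := lift_pt_addHom (S := S) m (pt n)
      rw [pt_constMap, toUnit_unique (toUnit (𝟙_ (Over S))) (𝟙 _), Category.id_comp] at h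
      exact h
    rw [reassoc_of% e1, lift_whiskerRight_assoc, Category.assoc, e2, lift_pt_addHom, Category.id_comp]
    rw [piece_eq, piece_eq, ← Category.assoc, comp_lift, comp_toUnit_assoc, lift_whiskerLeft_assoc, Category.comp_id,
      lift_pt_addHom, lift_pt_addHom, Category.id_comp, constMap_comp]
    congr 1
    funext r
    exact Int.add_assoc m n r

theorem one_eq : η[Z S] = pt 0 := rfl

theorem mul_eq : μ[Z S] = addHom := rfl

theorem pt_mul (m n : ℤ) : pt (S := S) m * pt n = pt (m + n) := by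
  rw [Hom.mul_def, mul_eq]
  have h := lift_pt_addHom (S := S) m (pt n)
  rw [pt_constMap, toUnit_unique (toUnit (𝟙_ (Over S))) (𝟙 _), Category.id_comp] at h
  exact h

instance grpObjZ : GrpObj (Z S) where
  inv := TwC.constMap S fun n => -n
  left_inv := hom_ext_pt fun m => by
    rw [← Category.assoc, comp_lift, pt_constMap, Category.comp_id, comp_toUnit_assoc, mul_eq, one_eq,
      toUnit_unique (toUnit (𝟙_ (Over S))) (𝟙 _), Category.id_comp,
      show lift (pt (S := S) (-m)) (pt m) ≫ addHom = pt (-m) * pt m from rfl, pt_mul, Int.add_left_neg]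
  right_inv := hom_ext_pt fun m => by
    rw [← Category.assoc, comp_lift, pt_constMap, Category.comp_id, comp_toUnit_assoc, mul_eq, one_eq,
      toUnit_unique (toUnit (𝟙_ (Over S))) (𝟙 _), Category.id_comp,
      show lift (pt (S := S) m) (pt (-m)) ≫ addHom = pt m * pt (-m) from rfl, pt_mul, Int.add_right_neg]

instance isCommMonObjZ : IsCommMonObj (Z S) where
  mul_comm := ext_pieces fun m => hom_ext_pt fun n => by
    rw [mul_eq, piece_addHom, pt_constMap, piece_eq, ← Category.assoc, comp_lift, comp_toUnit_assoc, Category.comp_id,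
      toUnit_unique (toUnit (𝟙_ (Over S))) (𝟙 _), Category.id_comp, ← Category.assoc, lift_braiding_hom,
      show lift (pt (S := S) n) (pt m) ≫ addHom = pt n * pt m from rfl, pt_mul, Int.add_comm]

/-- The homomorphism from the integers determined by a point. -/
def powHom {B : Over S} [GrpObj B] (c : 𝟙_ (Over S) ⟶ B) : Z S ⟶ B :=
  Over.homMk (U := Z S) (V := B)
    (show (∐ fun _ : ℤ => S) ⟶ B.left from Sigma.desc fun n : ℤ => (c ^ n).left)
    (Sigma.hom_ext _ _ fun n => by
      show Sigma.ι (fun _ : ℤ => S) n ≫ (Sigma.desc fun n : ℤ => (c ^ n).left) ≫ B.hom = _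
      rw [Sigma.ι_desc_assoc, Over.w (c ^ n)]
      exact (Sigma.ι_desc (fun _ : ℤ => 𝟙 S) n).symm)

theorem pt_powHom {B : Over S} [GrpObj B] (c : 𝟙_ (Over S) ⟶ B) (n : ℤ) : pt n ≫ powHom c = c ^ n :=
  Over.OverMorphism.ext (Sigma.ι_desc _ _)

instance isMonHom_powHom {B : Over S} [GrpObj B] (c : 𝟙_ (Over S) ⟶ B) : IsMonHom (powHom c) where
  one_hom := by
    rw [one_eq, pt_powHom, zpow_zero, Hom.one_def, toUnit_unique (toUnit (𝟙_ (Over S))) (𝟙 _), Category.id_comp]
  mul_hom := ext_pieces fun m => hom_ext_pt fun n => by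
    rw [mul_eq, reassoc_of% (piece_addHom (S := S) m), ← Category.assoc, pt_constMap, pt_powHom, piece_eq,
      ← Category.assoc, comp_lift, comp_toUnit_assoc, Category.comp_id,
      toUnit_unique (toUnit (𝟙_ (Over S))) (𝟙 _), Category.id_comp, lift_map_assoc, pt_powHom, pt_powHom,
      ← Hom.mul_def, zpow_add]

end Groth.Agent.AlbProperLib
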