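import Groth.Agent.AlbProperLib.ConstZ
import Groth.Agent.GenSubLib.Bounded
import Groth.Agent.GenSubLib.BoundedK
import Groth.Agent.GenSubLib.Apps
import Groth.Agent.AVLib.IdSub
import Groth.Agent.AVLib.MaxAbel
import Groth.Agent.CommGrpAbLib.Basic
import Groth.Agent.MaxTorus.Basic
import Groth.Agent.S7795

/-!
The neutral component of the Albanese group of a proper integral scheme is proper.
-/

set_option autoImplicit false
set_option backward.isDefEq.respectTransparency false
set_option backward.isDefEq.respectTransparency.types false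
set_option linter.style.haveILetI false
set_option linter.unusedSectionVars false
set_option maxHeartbeats 1000000

universe u

open CategoryTheory CategoryTheory.Limits MonoidalCategory CartesianMonoidalCategory MonObj GrpObj AlgebraicGeometry

noncomputable section

namespace Groth.Agent.AlbProperLib

open Groth.Agent

variable {k : Type u} [Field k]

/-- The trivial torus. -/
theorem exists_trivial_torus :
    ∃ (T : Over (Spec (CommRingCat.of k))) (_ : GrpObj T), Red.IsTorus T ∧ IsIso (toUnit T) := by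
  refine ⟨Red.DS (Spec (CommRingCat.of k)) (Fin 0 → ℤ), inferInstance, MaxTorus.isTorus_of_split ⟨Iso.refl _⟩,
    ⟨η[Red.DS (Spec (CommRingCat.of k)) (Fin 0 → ℤ)], ?_, toUnit_unique _ _⟩⟩
  refine FixedSmooth.hom_ext_affine _ _ fun D q w => ?_
  obtain ⟨χ, hχ⟩ := (DSMapLib.dsPt (Fin 0 → ℤ) q).surjective (w ≫ toUnit _ ≫ η[Red.DS (Spec (CommRingCat.of k)) (Fin 0 → ℤ)])
  obtain ⟨χ', hχ'⟩ := (DSMapLib.dsPt (Fin 0 → ℤ) q).surjective (w ≫ 𝟙 _)
  rw [← hχ, ← hχ']
  congr 1
  exact MonoidHom.ext fun m => by rw [Subsingleton.elim m 1, map_one, map_one]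

theorem locallyOfFiniteType_Z : LocallyOfFiniteType (Z (Spec (CommRingCat.of k))).hom := by
  rw [IsZariskiLocalAtSource.iff_of_openCover (P := @LocallyOfFiniteType) (sigmaOpenCover fun _ : ℤ => Spec (CommRingCat.of k))]
  intro m
  show LocallyOfFiniteType (Sigma.ι (fun _ : ℤ => Spec (CommRingCat.of k)) m ≫ Sigma.desc fun _ : ℤ => 𝟙 _)
  rw [Sigma.ι_desc]
  infer_instance

variable [IsAlgClosed k]

/-- The source of a word in copies of a proper scheme is proper. -/
theorem isProper_src {X : Over (Spec (CommRingCat.of k))} [IsProper X.hom] :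
    ∀ l : List (PUnit.{1} × Bool), IsProper (GenSubLib.src (fun _ : PUnit.{1} => X) l).hom
  | [] => by
    show IsProper (𝟙 (Spec (CommRingCat.of k)))
    infer_instance
  | a :: l => by
    haveI := isProper_src (X := X) l
    show IsProper (X ⊗ GenSubLib.src (fun _ : PUnit.{1} => X) l).hom
    rw [← Over.w (snd X (GenSubLib.src (fun _ : PUnit.{1} => X) l))]
    haveI : IsProper (snd X (GenSubLib.src (fun _ : PUnit.{1} => X) l)).left :=
      MorphismProperty.pullback_snd (P := @IsProper) X.hom (GenSubLib.src (fun _ : PUnit.{1} => X) l).hom inferInstance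
    infer_instance

/-- A morphism from a proper integral scheme through the unit factors through an abelian subvariety. -/
theorem exists_abelian_through {G X : Over (Spec (CommRingCat.of k))} [GrpObj G] [LocallyOfFiniteType G.hom]
    [IsProper X.hom] [IsIntegral X.left] (x : 𝟙_ (Over (Spec (CommRingCat.of k))) ⟶ X) (f : X ⟶ G)
    (hx : x ≫ f = η[G]) :
    ∃ (M : Over (Spec (CommRingCat.of k))) (_ : GrpObj M) (i : M ⟶ G) (f' : X ⟶ M), IsMonHom i ∧
      IsClosedImmersion i.left ∧ IsProper M.hom ∧ GeometricallyIntegral M.hom ∧ f' ≫ i = f := by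
  haveI : GeometricallyReduced X.hom := AVLib.geometricallyReduced_of_perfect X.hom
  obtain ⟨Γ, hΓ, i, hi, hic, hΓr, hΓgr, hrange, hfac, ⟨q, hq, hqd⟩, hmin⟩ :=
    GenSubLib.exists_generated (GenSubLib.one₁ f)
  letI := hΓ
  haveI := hi; haveI := hic; haveI := hΓr; haveI := hΓgr
  haveI : IsSeparated G.hom := GrpSchLib.isSeparated_hom
  haveI : LocallyOfFiniteType Γ.hom := by rw [← Over.w i]; infer_instance
  haveI : IsSeparated Γ.hom := GrpSchLib.isSeparated_hom
  haveI : Mono i := Over.mono_of_mono_left i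
  obtain ⟨f', hf'⟩ := hfac PUnit.unit
  haveI : ConnectedSpace Γ.left := GenSubLib.connectedSpace_of_min f x hx i ⟨f', hf'⟩
    fun Γ' h' i' h1 h2 h3 => hmin Γ' h' i' h1 h2 fun _ => h3
  haveI : IrreducibleSpace Γ.left := GrpSchLib.irreducibleSpace_of_connectedSpace
  haveI : GeometricallyIntegral Γ.hom := AVLib.geometricallyIntegral_of_connectedSpace
  let g : ∀ _ : PUnit.{1}, X ⟶ Γ := fun _ => f'
  have hword : ∀ l, q l = GenSubLib.word g l := fun l => by
    rw [← cancel_mono i, hq, GenSubLib.word_comp i g (GenSubLib.one₁ f) (fun _ => hf') l]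
  have hy : ∀ _ : PUnit.{1}, x ≫ f' = 1 := fun _ => by
    rw [← cancel_mono i, Category.assoc, hf', hx, MonObj.one_comp, Hom.one_def,
      toUnit_unique (toUnit (𝟙_ (Over (Spec (CommRingCat.of k))))) (𝟙 _), Category.id_comp]
  obtain ⟨L, hL⟩ := GenSubLib.exists_surjective_word g (fun _ => x) hy (by
    refine hqd.mono ?_
    rintro z hz
    obtain ⟨l, hl⟩ := Set.mem_iUnion.1 hz
    exact Set.mem_iUnion.2 ⟨l, hword l ▸ hl⟩)
  haveI := isProper_src (X := X) L
  haveI : Surjective (GenSubLib.word g L).left := ⟨hL⟩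
  haveI : UniversallyClosed ((GenSubLib.word g L).left ≫ Γ.hom) := by
    rw [Over.w (GenSubLib.word g L)]; infer_instance
  haveI : UniversallyClosed Γ.hom := UniversallyClosed.of_comp_surjective (GenSubLib.word g L).left Γ.hom
  haveI : IsProper Γ.hom := {}
  exact ⟨Γ, hΓ, i, f', hi, hic, inferInstance, inferInstance, hf'⟩

/-- A morphism from a connected scheme through the unit lands in an open subgroup. -/
theorem exists_lift_open {G G0 V : Over (Spec (CommRingCat.of k))} [GrpObj G] [GrpObj G0] [LocallyOfFiniteType G.hom]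
    (e : G0 ⟶ G) [IsMonHom e] [IsOpenImmersion e.left] [ConnectedSpace V.left] (f : V ⟶ G) (v : V.left)
    (hv : f.left v ∈ Set.range e.left) : ∃ f₀ : V ⟶ G0, f₀ ≫ e = f := by
  have ho : IsOpen (Set.range e.left) := e.left.isOpenEmbedding.isOpen_range
  have h : IsClopen (f.left ⁻¹' Set.range e.left) :=
    ⟨(GrpSchLib.isClosed_range_of_isOpen e ho).preimage f.left.continuous, ho.preimage f.left.continuous⟩
  have hu := h.eq_univ ⟨v, hv⟩
  refine ⟨Over.homMk (IsOpenImmersion.lift e.left f.left ?_) ?_, Over.OverMorphism.ext (IsOpenImmersion.lift_fac _ _ _)⟩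
  · rintro _ ⟨w, rfl⟩
    exact hu.ge (Set.mem_univ w)
  · rw [← Over.w e, IsOpenImmersion.lift_fac_assoc]
    exact Over.w f

/-- A morphism from a connected group to the constant group is trivial. -/
theorem eq_one_of_connected {G : Over (Spec (CommRingCat.of k))} [GrpObj G] [ConnectedSpace G.left]
    (f : G ⟶ Z (Spec (CommRingCat.of k))) [IsMonHom f] : f = 1 := by
  haveI : LocallyOfFiniteType (Z (Spec (CommRingCat.of k))).hom := locallyOfFiniteType_Z
  haveI : IsOpenImmersion (pt (S := Spec (CommRingCat.of k)) 0).left :=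
    inferInstanceAs (IsOpenImmersion (Sigma.ι (fun _ : ℤ => Spec (CommRingCat.of k)) 0))
  haveI : IsMonHom η[Z (Spec (CommRingCat.of k))] := inferInstance
  obtain ⟨f₀, hf₀⟩ := exists_lift_open η[Z (Spec (CommRingCat.of k))] f
    (η[G].left (IsLocalRing.closedPoint k)) ⟨IsLocalRing.closedPoint k, by
      rw [← Scheme.Hom.comp_apply, ← Over.comp_left, IsMonHom.one_hom f]⟩
  rw [← hf₀, toUnit_unique f₀ (toUnit G), ← Hom.one_def]

theorem isProper_of_universal {X A A0 : Over (Spec (CommRingCat.of k))} [IsIntegral X.left] [IsProper X.hom]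
    [GrpObj A] [IsCommMonObj A] [LocallyOfFiniteType A.hom] [GrpObj A0] (e₀ : A0 ⟶ A) [IsMonHom e₀]
    [IsOpenImmersion e₀.left] [ConnectedSpace A0.left] (u : X ⟶ A)
    (hext : ∀ (G : Over (Spec (CommRingCat.of k))) [GrpObj G] [IsCommMonObj G] [IsSeparated G.hom]
      [LocallyOfFiniteType G.hom] (G0 : Over (Spec (CommRingCat.of k))) [GrpObj G0] (e : G0 ⟶ G) [IsMonHom e]
      [IsOpenImmersion e.left] [ConnectedSpace G0.left] [IsProper G0.hom] [Smooth G0.hom] (φ : X ⟶ G),
      ∃ h : A ⟶ G, IsMonHom h ∧ u ≫ h = φ)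
    (hself : ∀ h : A ⟶ A, IsMonHom h → u ≫ h = u → h = 𝟙 A) : IsProper A0.hom := by
  haveI : IsSeparated A.hom := GrpSchLib.isSeparated_hom
  haveI : JacobsonSpace X.left := LocallyOfFiniteType.jacobsonSpace X.hom
  obtain ⟨x', -, hx'⟩ := nonempty_inter_closedPoints (Set.univ_nonempty (α := X.left)) isClosed_univ.isLocallyClosed
  obtain ⟨x₀, -⟩ := GenSubLib.exists_pt hx'
  let c : 𝟙_ (Over (Spec (CommRingCat.of k))) ⟶ A := x₀ ≫ u
  let d : X ⟶ A := u * (toUnit X ≫ c)⁻¹
  have hd : x₀ ≫ d = η[A] := by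
    simp only [d, c, MonObj.comp_mul, GrpObj.comp_inv, comp_toUnit_assoc,
      toUnit_unique (toUnit (𝟙_ (Over (Spec (CommRingCat.of k))))) (𝟙 _), Category.id_comp, mul_inv_cancel]
    rw [Hom.one_def, toUnit_unique (toUnit (𝟙_ (Over (Spec (CommRingCat.of k))))) (𝟙 _), Category.id_comp]
  obtain ⟨M, hM, i, d', hi, hic, hMp, hMg, hd'⟩ := exists_abelian_through x₀ d hd
  letI := hM
  haveI := hi; haveI := hic; haveI := hMp; haveI := hMg
  haveI : IsCommMonObj M := isCommMonObj_of_isProper_of_geometricallyIntegral M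
  haveI : Smooth M.hom := S7795.result M
  haveI : Subsingleton ↥(Spec (CommRingCat.of k)) := inferInstanceAs (Subsingleton (PrimeSpectrum k))
  haveI : IsIntegral M.left := GeometricallyIntegral.isIntegral_of_subsingleton M.hom
  haveI : IsOpenImmersion (𝟙 M : M ⟶ M).left := inferInstanceAs (IsOpenImmersion (𝟙 M.left))
  haveI : ConnectedSpace M.left := inferInstance
  obtain ⟨h, hh, hhu⟩ := hext M M (𝟙 M) d'
  haveI := hh
  -- the degree
  haveI : LocallyOfFiniteType (Z (Spec (CommRingCat.of k))).hom := locallyOfFiniteType_Z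
  haveI : IsSeparated (Z (Spec (CommRingCat.of k))).hom := GrpSchLib.isSeparated_hom
  haveI : IsOpenImmersion (η[Z (Spec (CommRingCat.of k))]).left :=
    inferInstanceAs (IsOpenImmersion (Sigma.ι (fun _ : ℤ => Spec (CommRingCat.of k)) 0))
  haveI : ConnectedSpace (𝟙_ (Over (Spec (CommRingCat.of k)))).left :=
    inferInstanceAs (ConnectedSpace ↥(Spec (CommRingCat.of k)))
  haveI : IsProper (𝟙_ (Over (Spec (CommRingCat.of k)))).hom := inferInstanceAs (IsProper (𝟙 _))
  haveI : Smooth (𝟙_ (Over (Spec (CommRingCat.of k)))).hom := inferInstanceAs (Smooth (𝟙 _))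
  obtain ⟨deg, hdeg, hdegu⟩ := hext (Z (Spec (CommRingCat.of k))) (𝟙_ _) η[Z (Spec (CommRingCat.of k))]
    (toUnit X ≫ pt 1)
  haveI := hdeg
  haveI : IsMonHom ((h ≫ i) * (deg ≫ powHom c)) := CommGrpAbLib.isMonHom_mul _ _
  have hid : (h ≫ i) * (deg ≫ powHom c) = 𝟙 A := by
    refine hself _ inferInstance ?_
    rw [MonObj.comp_mul, ← Category.assoc, hhu, hd', ← Category.assoc, hdegu, Category.assoc, pt_powHom, zpow_one]
    exact inv_mul_cancel_right u (toUnit X ≫ c)
  haveI : IsMonHom (e₀ ≫ deg) := inferInstance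
  have he : e₀ = (e₀ ≫ h) ≫ i := by
    have h1 := congrArg (e₀ ≫ ·) hid
    simp only [MonObj.comp_mul, Category.comp_id] at h1
    rw [← Category.assoc e₀ deg, eq_one_of_connected (e₀ ≫ deg), MonObj.one_comp, _root_.mul_one] at h1
    rw [Category.assoc]
    exact h1.symm
  obtain ⟨j, hj⟩ := exists_lift_open e₀ i (η[M].left (IsLocalRing.closedPoint k))
    ⟨η[A0].left (IsLocalRing.closedPoint k), by
      rw [← Scheme.Hom.comp_apply, ← Over.comp_left, IsMonHom.one_hom e₀, ← Scheme.Hom.comp_apply, ← Over.comp_left,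
        IsMonHom.one_hom i]⟩
  haveI : Mono e₀ := Over.mono_of_mono_left e₀
  have hret : (e₀ ≫ h) ≫ j = 𝟙 A0 := by
    rw [← cancel_mono e₀, Category.assoc, hj, Category.id_comp, ← he]
  haveI : Surjective j.left := by
    haveI : Surjective ((e₀ ≫ h).left ≫ j.left) := by rw [← Over.comp_left, hret]; exact ⟨fun a => ⟨a, rfl⟩⟩
    exact Surjective.of_comp (e₀ ≫ h).left j.left
  haveI : UniversallyClosed (j.left ≫ A0.hom) := by rw [Over.w j]; infer_instance
  haveI : UniversallyClosed A0.hom := UniversallyClosed.of_comp_surjective j.left A0.hom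
  haveI : LocallyOfFiniteType A0.hom := by rw [← Over.w e₀]; infer_instance
  haveI : IsSeparated A0.hom := GrpSchLib.isSeparated_hom
  exact {}

end Groth.Agent.AlbProperLib
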